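import Groth.Agent.Lib.PosLin.Asymp
import Groth.Agent.Lib.PosLin.BaseLocus
import Groth.Agent.Lib.Snapper.DimBound
import Groth.Agent.Lib.GrothVanSupport
import Groth.Agent.Lib.SurfInt.Pencil
import Groth.Agent.Lib.AssPt.Modules

/-!
# Cohomology beyond the dimension of the stable base locus

If the base locus of `L^a` has dimension at most `d`, then `dim H^i(F ⊗ L^m) = O(m^{r-2})` for `i > d` and
`F` with support of dimension `< r`.
-/

set_option autoImplicit false
set_option linter.style.haveILetI false
set_option linter.unusedSectionVars false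
universe u

open CategoryTheory CategoryTheory.Limits AlgebraicGeometry TopologicalSpace

namespace Groth.Agent.Lib.StableBase96

open Groth.Agent.Lib Groth.Agent.Lib.Snapper Groth.Agent.Lib.PosLin Groth.Agent.Lib.PosLin.CohBound
open Groth.Agent.Lib.TensorMod.Basic (comm assoc tensorIso leftUnit rightUnit)
open Groth.Agent.Lib.TensorMod.Invertible (isInvertible_tensorPow)
open Groth.Agent.Lib.PosLin.SectionBound (isCoh_twist_right)

variable {k : Type u} [Field k] {X : Scheme.{u}} [X.Over (Spec (CommRingCat.of k))]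
  [IsProper (X ↘ Spec (CommRingCat.of k))]

/-- One section which avoids finitely many points outside the base locus. -/
theorem exists_section [Infinite k] [IsIntegral X]
    {P : X.Modules} (hP : PicF.IsInvertible P) {S : Set X} (hS : S.Finite)
    (h : ∀ x ∈ S, ∃ s : Coh.structureModule X ⟶ P, x ∈ CohB1.genLocus P s) :
    ∃ s : Coh.structureModule X ⟶ P, S ⊆ CohB1.genLocus P s := by
  haveI := Curves.GlobalSections.isNoetherian_of_proper k X
  induction S, hS using Set.Finite.induction_on with
  | empty => exact ⟨0, Set.empty_subset _⟩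
  | @insert η S _ hSfin ih =>
    obtain ⟨s, hs⟩ := ih fun x hx => h x (Set.mem_insert_of_mem η hx)
    obtain ⟨t, ht⟩ := h η (Set.mem_insert η S)
    obtain ⟨-, u, -, hu⟩ := SurfInt.Pencil.exists_avoiding (k := k) hP s t (hSfin.insert η) fun x hx => by
      rcases Set.mem_insert_iff.1 hx with rfl | hx
      · exact Or.inr ht
      · exact Or.inl (hs hx)
    exact ⟨u, hu⟩

/-- **The bound.** -/
theorem exists_bound [Infinite k] [IsIntegral X] {L : X.Modules} (hL : PicF.IsInvertible L) {a d : ℕ} (ha : 0 < a)
    (hB : topologicalKrullDim ((BaseLocus.gen L a : Set X)ᶜ : Set X) ≤ d) :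
    ∀ (r : ℕ) (F : X.Modules), Coh.IsCoh F →
      (∀ x ∈ CohB1.support F, VarDim.Basic.pdim (X ↘ Spec (CommRingCat.of k)) x < r) → ∀ i : ℕ, d < i →
      ∃ K : ℕ, (r ≤ d + 1 → K = 0) ∧ ∀ m : ℕ,
        hd k X (CohB1.tensorMod (CohB1.tensorPow L m) F) i ≤ K * (m + 1) ^ (r - 2) := by
  classical
  haveI := Curves.GlobalSections.isNoetherian_of_proper k X
  obtain ⟨N, hN⟩ := DimBound.exists_dim_bound k X
  let pX := X ↘ Spec (CommRingCat.of k)
  set B : Set X := (BaseLocus.gen L a : Set X)ᶜ
  have hBc : IsClosed B := (BaseLocus.gen L a).isOpen.isClosed_compl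
  have hBd : ∀ x ∈ B, VarDim.Basic.pdim pX x ≤ d := fun x hx => by
    exact_mod_cast (VarDim.Basic.pdim_le_topologicalKrullDim pX hBc.isLocallyClosed hx).trans hB
  have hzero : ∀ (F : X.Modules), Coh.IsCoh F → (∀ x ∈ CohB1.support F, VarDim.Basic.pdim pX x ≤ d) →
      ∀ m i, d < i → hd k X (CohB1.tensorMod (CohB1.tensorPow L m) F) i = 0 := by
    intro F hF hs m i hi
    have hLm := isInvertible_tensorPow hL m
    haveI := (Twist.isCoh_twist hLm hF).2
    haveI : Subsingleton (Coh.HH X (CohB1.tensorMod (CohB1.tensorPow L m) F) i) := by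
      refine GrothVanSupport.subsingleton_HH N hN _ ?_ i hi
      rw [Twist.support_twist hLm]
      haveI := hF.2
      exact (VarDim.Basic.topologicalKrullDim_le_iff pX (Modules.Support.isClosed_support F).isLocallyClosed _).2
        fun x hx => by exact_mod_cast hs x hx
    exact Module.finrank_zero_of_subsingleton
  intro r
  induction r with
  | zero =>
    intro F hF hs i hi
    exact ⟨0, fun _ => rfl, fun m => by
      rw [hzero F hF (fun x hx => absurd (hs x hx) (Nat.not_lt_zero _)) m i hi, Nat.zero_mul]⟩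
  | succ r ih =>
    intro F hF hs i hi
    by_cases hrd : r + 1 ≤ d + 1
    · exact ⟨0, fun _ => rfl, fun m => by
        rw [hzero F hF (fun x hx => by have : VarDim.Basic.pdim pX x < r + 1 := hs x hx; omega) m i hi, Nat.zero_mul]⟩
    haveI := hF.1
    haveI := hF.2
    have hT : IsClosed (CohB1.support F) := Modules.Support.isClosed_support F
    have hP := isInvertible_tensorPow hL a
    let S : Set X := ({x | x ∈ CohB1.support F ∧ ∀ z ∈ CohB1.support F, z ⤳ x → z = x} ∪
      {y | Curv2.IsAssPoint F y}) \ B
    obtain ⟨s, hsS⟩ := exists_section (k := k) hP (S := S)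
      (((Devissage.Dim.finite_maximal hT).union (UnifReg.Hyperplane.finite_assPoints hF)).subset Set.sdiff_subset)
      fun x hx => BaseLocus.mem_gen.1 (not_not.1 hx.2)
    let φ : F ⟶ CohB1.tensorMod F (CohB1.tensorPow L a) := (UnifReg.Hyperplane.mulS s).app F
    have hG := isCoh_twist_right hF hP
    have hKc := CohBasics.Closure.isCoh_kernel φ hF hG.1
    let π : F ⟶ cokernel (kernel.ι φ) := cokernel.π (kernel.ι φ)
    let ψ : cokernel (kernel.ι φ) ⟶ CohB1.tensorMod F (CohB1.tensorPow L a) :=
      cokernel.desc (kernel.ι φ) φ (kernel.condition φ)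
    haveI : Mono ψ := inferInstanceAs (Mono (Abelian.factorThruCoimage φ))
    have hI : Coh.IsCoh (cokernel (kernel.ι φ)) := CohBasics.Closure.isCoh_cokernel _ hKc.1 hF
    have hQc : Coh.IsCoh (cokernel ψ) := CohBasics.Closure.isCoh_cokernel _ hI.1 hG
    have hπψ : π ≫ ψ = φ := cokernel.π_desc _ _ _
    -- the kernel lives on the base locus
    have hKs : ∀ x ∈ CohB1.support (kernel φ), VarDim.Basic.pdim pX x ≤ d := by
      intro x hx
      haveI := hKc.1
      obtain ⟨y, hyx, hy⟩ := AssPt.Modules.exists_assPoint_of_stalk_nontrivial hx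
      refine (VarDim.Basic.pdim_le pX hyx).trans (hBd y ?_)
      by_contra hyB
      have hyF : Curv2.IsAssPoint F y := (AssPt.Modules.assPoints_of_shortExact
        (Devissage.Basic.exists_ses_mono (kernel.ι φ)) y).2 hy
      have hyg : y ∈ CohB1.genLocus (CohB1.tensorPow L a) s := hsS ⟨Or.inr hyF, hyB⟩
      have hnt := AssPt.Modules.nontrivial_stalk_of_assPoint hy
      refine hnt ?_
      refine subsingleton_of_forall_eq 0 fun v => ?_
      apply (Modules.StalkModule.mono_iff_stalkMapₗ_injective (kernel.ι φ)).mp inferInstance y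
      apply (UnifReg.Hyperplane.bijective_stalk_mulS s hyg F).1
      refine (LinearMap.comp_apply _ _ _).symm.trans ?_
      rw [← Modules.StalkModule.stalkMapₗ_comp, show kernel.ι φ ≫ (UnifReg.Hyperplane.mulS s).app F = 0 from kernel.condition φ, Modules.StalkModule.stalkMapₗ_zero, map_zero, map_zero]
      rfl
    -- the cokernel is small
    have hQs : ∀ x ∈ CohB1.support (cokernel ψ), VarDim.Basic.pdim pX x < r := by
      intro x hx
      haveI : Epi (cokernel.π φ) := inferInstance
      have hx' : x ∈ CohB1.support (cokernel φ) := by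
        intro hsub
        refine hx ?_
        have h0 : φ ≫ cokernel.π ψ = 0 :=
          (congrArg (· ≫ cokernel.π ψ) hπψ.symm).trans
            ((Category.assoc π ψ _).trans (by rw [cokernel.condition, comp_zero]))
        have hepi : Epi (cokernel.desc φ (cokernel.π ψ) h0) :=
          epi_of_epi_fac (cokernel.π_desc φ (cokernel.π ψ) h0)
        haveI := hsub
        exact ((Modules.StalkModule.epi_iff_stalkMapₗ_surjective _).mp
          hepi x).subsingleton
      obtain ⟨h1, h2⟩ := UnifReg.Hyperplane.support_coker s F hx'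
      have h3 : x ∈ CohB1.support F := by
        have h4 : x ∈ CohB1.support (CohB1.tensorMod F (CohB1.tensorPow L a)) := h2
        rwa [Modules.Support.support_congr (comm F (CohB1.tensorPow L a)), Twist.support_twist hP] at h4
      obtain ⟨z, hz, hzx, hmax⟩ := Ideal.Prime.exists_maximal_generization hT h3
      by_cases hzB : z ∈ B
      · have := (VarDim.Basic.pdim_le pX hzx).trans (hBd z hzB)
        omega
      · have hne : z ≠ x := fun e => h1 (hsS ⟨Or.inl (e ▸ ⟨hz, hmax⟩), e ▸ hzB⟩)
        have := VarDim.Basic.pdim_lt pX hzx hne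
        have : VarDim.Basic.pdim pX z < r + 1 := hs z hz
        omega
    obtain ⟨K, hK0, hK⟩ := ih (cokernel ψ) hQc hQs i hi
    let P : ℕ → ℕ := fun m => hd k X (CohB1.tensorMod (CohB1.tensorPow L m) F) i
    have hstep : ∀ m, P (m + a) ≤ P m + K * (m + a + 1) ^ (r - 2) := by
      intro m
      have hM := isInvertible_tensorPow hL m
      have l1 := hd_right_le (k := k)
        (Twist.twistSeq_shortExact hM (Devissage.Basic.exists_ses_mono (kernel.ι φ)))
        (Twist.isCoh_twist hM hKc) (Twist.isCoh_twist hM hF) (Twist.isCoh_twist hM hI) i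
      have l2 := hd_mid_le (k := k) (Twist.twistSeq_shortExact hM (Devissage.Basic.exists_ses_mono ψ))
        (Twist.isCoh_twist hM hI) (Twist.isCoh_twist hM hG) (Twist.isCoh_twist hM hQc) i
      have hz := hzero (kernel φ) hKc hKs m (i + 1) (by omega)
      have e : P (m + a) = hd k X (CohB1.tensorMod (CohB1.tensorPow L m)
          (CohB1.tensorMod F (CohB1.tensorPow L a))) i :=
        hd_congr (k := k) (tensorIso (Ample.Pow.powAdd L m a) (Iso.refl F) ≪≫ assoc _ _ _ ≪≫
          tensorIso (Iso.refl _) (comm _ _)) i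
      have h1 : hd k X (CohB1.tensorMod (CohB1.tensorPow L m) (cokernel (kernel.ι φ))) i ≤ P m := by
        refine le_trans l1 ?_
        exact le_of_eq (by rw [show hd k X (Twist.twistSeq (CohB1.tensorPow L m) (ShortComplex.mk (kernel.ι φ)
          (cokernel.π (kernel.ι φ)) (cokernel.condition _))).X₁ (i + 1) = 0 from hz]; rfl)
      rw [e]
      exact l2.trans (add_le_add h1 ((hK m).trans
        (Nat.mul_le_mul_left _ (Nat.pow_le_pow_left (by omega) _))))
    refine ⟨(∑ j ∈ Finset.range a, P j) + K, fun h => absurd h hrd, fun m => ?_⟩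
    refine (rec_bound ha hstep m).trans ?_
    rw [add_mul (∑ j ∈ Finset.range a, P j)]
    refine add_le_add (Nat.le_mul_of_pos_right _ (pow_pos m.succ_pos _)) ?_
    by_cases hr2 : r ≤ d + 1
    · simp [hK0 hr2]
    · rw [mul_assoc, show r + 1 - 2 = (r - 2) + 1 by omega, pow_succ']
      exact Nat.mul_le_mul_left _ (Nat.mul_le_mul_right _ (Nat.le_succ m))

end Groth.Agent.Lib.StableBase96
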